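import Groth.Agent.Lib.Helper24.PLine.Laurent

/-!
# Core of S15179: a `K`-form of `L[T;T⁻¹]` twisted by inversion

`A` is a `K`-algebra with an injective map `φ : A → L[T;T⁻¹]` whose image is fixed by the twisted
inversion `conj σ` and spans `L[T;T⁻¹]` over `L`.  Then `L ⊗[K] A ≃ L[T;T⁻¹]`, every `K`-algebra
endomorphism of `A` extends to `L[T;T⁻¹]`, and finite groups of automorphisms have exponent `2` and
order at most `4` (when the roots of unity of `L` lie in `K`).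
-/

open LaurentPolynomial TensorProduct
open scoped Polynomial

namespace Groth.Agent.Lib.Helper24.PLine

variable (K L A : Type*) [Field K] [Field L] [Algebra K L] [CommRing A] [Algebra K A]

structure Setup where
  σ : L →ₐ[K] L
  α : L
  β : L
  σα : σ α = β
  hne : α ≠ β
  span : ∀ l : L, ∃ x y : K, l = algebraMap K L x + algebraMap K L y * α
  φ : A →ₐ[K] L[T;T⁻¹]
  φ_inj : Function.Injective φ
  φ_conj : ∀ z, conj σ.toRingHom (φ z) = φ z
  a₁ : A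
  a₂ : A
  hT : (T 1 : L[T;T⁻¹]) = φ a₁ + C α * φ a₂
  hT' : (T (-1) : L[T;T⁻¹]) = φ a₁ + C β * φ a₂
  roots : ∀ n : ℕ, 0 < n → ∀ c : L, c ^ n = 1 → ∃ k : K, algebraMap K L k = c

variable {K L A}

namespace Setup

variable (S : Setup K L A)

/-- The comparison map `L ⊗[K] A → L[T;T⁻¹]`. -/
noncomputable def e : L ⊗[K] A →ₐ[L] L[T;T⁻¹] :=
  Algebra.TensorProduct.lift (Algebra.ofId L _) S.φ (fun _ _ => Commute.all _ _)

theorem e_tmul (l : L) (z : A) : S.e (l ⊗ₜ z) = C l * S.φ z := by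
  rw [e, Algebra.TensorProduct.lift_tmul]
  rfl

theorem exists_repr (t : L ⊗[K] A) : ∃ a b : A, t = 1 ⊗ₜ a + S.α ⊗ₜ b := by
  induction t using TensorProduct.induction_on with
  | zero => exact ⟨0, 0, by simp⟩
  | tmul l z =>
    obtain ⟨x, y, rfl⟩ := S.span l
    refine ⟨x • z, y • z, ?_⟩
    rw [TensorProduct.add_tmul, TensorProduct.tmul_smul, TensorProduct.tmul_smul,
      TensorProduct.smul_tmul', TensorProduct.smul_tmul', Algebra.smul_def, mul_one,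
      Algebra.smul_def]
  | add t t' ht ht' =>
    obtain ⟨a, b, rfl⟩ := ht
    obtain ⟨a', b', rfl⟩ := ht'
    refine ⟨a + a', b + b', ?_⟩
    rw [TensorProduct.tmul_add, TensorProduct.tmul_add]
    abel

theorem e_repr (a b : A) : S.e (1 ⊗ₜ a + S.α ⊗ₜ b) = S.φ a + C S.α * S.φ b := by
  rw [map_add, e_tmul, e_tmul, map_one, one_mul]

theorem C_ne_zero {l : L} (h : l ≠ 0) : (C l : L[T;T⁻¹]) ≠ 0 := by
  intro h0
  have := congrArg (fun w : L[T;T⁻¹] => w.coeff 0) h0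
  simp at this
  exact h this

theorem e_injective : Function.Injective S.e := by
  rw [injective_iff_map_eq_zero]
  intro t ht
  obtain ⟨a, b, rfl⟩ := S.exists_repr t
  rw [e_repr] at ht
  have h2 : S.φ a + C S.β * S.φ b = 0 := by
    have := congrArg (conj S.σ.toRingHom) ht
    rw [map_add, map_mul, S.φ_conj, S.φ_conj, conj_C, map_zero] at this
    rw [← this, ← S.σα]
    rfl
  have h3 : C (S.α - S.β) * S.φ b = 0 := by
    rw [map_sub, sub_mul]
    linear_combination ht - h2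
  have h4 : S.φ b = 0 := by
    rcases mul_eq_zero.1 h3 with h | h
    · exact absurd h (C_ne_zero (sub_ne_zero.2 S.hne))
    · exact h
  have hb : b = 0 := S.φ_inj (by rw [h4, map_zero])
  have ha : a = 0 := by
    apply S.φ_inj
    rw [map_zero]
    rw [h4, mul_zero, add_zero] at ht
    exact ht
  rw [ha, hb]
  simp

theorem T_mem_range (n : ℤ) : (T n : L[T;T⁻¹]) ∈ S.e.range := by
  have h1 : (T 1 : L[T;T⁻¹]) ∈ S.e.range :=
    ⟨1 ⊗ₜ S.a₁ + S.α ⊗ₜ S.a₂, by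
      show S.e _ = _
      rw [e_repr, ← S.hT]⟩
  have h2 : (T (-1) : L[T;T⁻¹]) ∈ S.e.range :=
    ⟨1 ⊗ₜ S.a₁ + S.β ⊗ₜ S.a₂, by
      show S.e _ = _
      rw [map_add, e_tmul, e_tmul, map_one, one_mul, ← S.hT']⟩
  rcases Int.eq_nat_or_neg n with ⟨k, rfl | rfl⟩
  · have : (T (k : ℤ) : L[T;T⁻¹]) = T 1 ^ k := by rw [T_pow]; simp
    rw [this]
    exact Subalgebra.pow_mem _ h1 k
  · have : (T (-(k : ℤ)) : L[T;T⁻¹]) = T (-1) ^ k := by rw [T_pow]; simp
    rw [this]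
    exact Subalgebra.pow_mem _ h2 k

theorem e_surjective : Function.Surjective S.e := by
  intro p
  change p ∈ S.e.range
  induction p using LaurentPolynomial.induction_on' with
  | add p q hp hq => exact Subalgebra.add_mem _ hp hq
  | C_mul_T n a =>
    refine Subalgebra.mul_mem _ ?_ (S.T_mem_range n)
    rw [C_eq_algebraMap]
    exact Subalgebra.algebraMap_mem _ a

/-- `L ⊗[K] A ≃ L[T;T⁻¹]`. -/
noncomputable def eE : L ⊗[K] A ≃ₐ[L] L[T;T⁻¹] :=
  AlgEquiv.ofBijective S.e ⟨S.e_injective, S.e_surjective⟩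

theorem eE_apply (t : L ⊗[K] A) : S.eE t = S.e t := rfl

/-- Extension of a `K`-algebra endomorphism of `A` to `L[T;T⁻¹]`. -/
noncomputable def Λ (f : A →ₐ[K] A) : L[T;T⁻¹] →ₐ[L] L[T;T⁻¹] :=
  (S.e.comp (Algebra.TensorProduct.map (AlgHom.id L L) f)).comp S.eE.symm.toAlgHom

theorem Λ_e (f : A →ₐ[K] A) (t : L ⊗[K] A) :
    S.Λ f (S.e t) = S.e (Algebra.TensorProduct.map (AlgHom.id L L) f t) := by
  have : S.eE.symm (S.e t) = t := by rw [← eE_apply, AlgEquiv.symm_apply_apply]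
  show S.e (Algebra.TensorProduct.map (AlgHom.id L L) f (S.eE.symm (S.e t))) = _
  rw [this]

theorem Λ_φ (f : A →ₐ[K] A) (z : A) : S.Λ f (S.φ z) = S.φ (f z) := by
  have h1 : S.φ z = S.e (1 ⊗ₜ z) := by rw [e_tmul, map_one, one_mul]
  rw [h1, Λ_e, Algebra.TensorProduct.map_tmul, e_tmul]
  simp

theorem Λ_C (f : A →ₐ[K] A) (l : L) : S.Λ f (C l) = C l := map_C _ l

theorem Λ_T (f : A →ₐ[K] A) : S.Λ f (T 1) = S.φ (f S.a₁) + C S.α * S.φ (f S.a₂) := by
  rw [S.hT, map_add, map_mul, Λ_φ, Λ_φ, Λ_C]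

theorem Λ_T' (f : A →ₐ[K] A) : S.Λ f (T (-1)) = S.φ (f S.a₁) + C S.β * S.φ (f S.a₂) := by
  rw [S.hT', map_add, map_mul, Λ_φ, Λ_φ, Λ_C]

theorem Λ_T'_eq_conj (f : A →ₐ[K] A) :
    S.Λ f (T (-1)) = conj S.σ.toRingHom (S.Λ f (T 1)) := by
  rw [Λ_T, Λ_T', map_add, map_mul, S.φ_conj, S.φ_conj, conj_C, ← S.σα]
  rfl

theorem Λ_id : S.Λ (AlgHom.id K A) = AlgHom.id L _ := by
  apply algHom_ext_T
  rw [Λ_T]
  simp [← S.hT]

theorem Λ_comp (f f' : A →ₐ[K] A) : S.Λ (f.comp f') = (S.Λ f).comp (S.Λ f') := by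
  apply algHom_ext_T
  rw [AlgHom.comp_apply, Λ_T, Λ_T, map_add, map_mul, Λ_φ, Λ_φ, Λ_C]
  rfl

theorem Λ_injective {f f' : A →ₐ[K] A} (h : S.Λ f = S.Λ f') : f = f' := by
  apply AlgHom.ext
  intro z
  apply S.φ_inj
  rw [← Λ_φ, ← Λ_φ, h]

/-- Rationality: if `Λ f (T 1) = C c * T 1` then `σ c = c⁻¹`. -/
theorem σ_eq_inv {f : A →ₐ[K] A} {c : L} (hc : c ≠ 0) (h : S.Λ f (T 1) = C c * T 1) :
    S.σ c = c⁻¹ := by
  have h1 := map_T_inv (S.Λ f) hc h
  rw [Λ_T'_eq_conj, h, map_mul, conj_C, conj_T] at h1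
  have hne : S.σ.toRingHom c ≠ 0 := by
    intro h0
    exact hc ((map_eq_zero S.σ.toRingHom).1 h0)
  exact (C_mul_T_inj hne h1).1

end Setup

end Groth.Agent.Lib.Helper24.PLine
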