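import Groth.Agent.Lib.Helper24.PLine.Quad

/-!
# Binary quadratic forms: normal form and irreducibility
-/

open MvPolynomial

namespace Groth.Agent.Lib.Helper24.PLine

variable {K : Type*} [Field K]

/-- A homogeneous quadratic form in two variables is `a x² + b x y + c y²`. -/
theorem form_eq (q : MvPolynomial (Fin 2) K) (hq : q.IsHomogeneous 2) :
    q = C (q.coeff (Finsupp.single 0 2)) * X 0 ^ 2
      + C (q.coeff (Finsupp.single 0 1 + Finsupp.single 1 1)) * X 0 * X 1
      + C (q.coeff (Finsupp.single 1 2)) * X 1 ^ 2 := by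
  classical
  have e1 : (C (q.coeff (Finsupp.single 0 2)) * X 0 ^ 2 : MvPolynomial (Fin 2) K)
      = monomial (Finsupp.single 0 2) (q.coeff (Finsupp.single 0 2)) := by
    rw [C_mul_X_pow_eq_monomial]
  have e2 : (C (q.coeff (Finsupp.single 0 1 + Finsupp.single 1 1)) * X 0 * X 1
      : MvPolynomial (Fin 2) K)
      = monomial (Finsupp.single 0 1 + Finsupp.single 1 1)
        (q.coeff (Finsupp.single 0 1 + Finsupp.single 1 1)) := by
    rw [mul_assoc, X, X, monomial_mul, C_mul_monomial]
    simp
  have e3 : (C (q.coeff (Finsupp.single 1 2)) * X 1 ^ 2 : MvPolynomial (Fin 2) K)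
      = monomial (Finsupp.single 1 2) (q.coeff (Finsupp.single 1 2)) := by
    rw [C_mul_X_pow_eq_monomial]
  rw [e1, e2, e3]
  ext d
  rw [coeff_add, coeff_add, coeff_monomial, coeff_monomial, coeff_monomial]
  have h01 : (Finsupp.single (0 : Fin 2) 2 : Fin 2 →₀ ℕ) ≠ Finsupp.single 0 1 + Finsupp.single 1 1 := by
    intro h
    have := DFunLike.congr_fun h 0
    simp at this
  have h02 : (Finsupp.single (0 : Fin 2) 2 : Fin 2 →₀ ℕ) ≠ Finsupp.single 1 2 := by
    intro h
    have := DFunLike.congr_fun h 0
    simp at this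
  have h12 : (Finsupp.single (0 : Fin 2) 1 + Finsupp.single 1 1 : Fin 2 →₀ ℕ) ≠ Finsupp.single 1 2 := by
    intro h
    have := DFunLike.congr_fun h 0
    simp at this
  by_cases hd : coeff d q = 0
  · -- all three must vanish or match
    by_cases h1 : Finsupp.single 0 2 = d
    · subst h1; rw [if_pos rfl, if_neg h01.symm, if_neg h02.symm]; simp
    by_cases h2 : Finsupp.single 0 1 + Finsupp.single 1 1 = d
    · subst h2; rw [if_neg h01, if_pos rfl, if_neg h12.symm]; simp
    by_cases h3 : Finsupp.single 1 2 = d
    · subst h3; rw [if_neg h02, if_neg h12, if_pos rfl]; simp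
    rw [if_neg h1, if_neg h2, if_neg h3, hd]; simp
  · have hdeg : d.degree = 2 := by
      by_contra hne
      exact hd (hq.coeff_eq_zero hne)
    rw [Finsupp.degree_eq_sum, Fin.sum_univ_two] at hdeg
    have hcases : d = Finsupp.single 0 2 ∨ d = Finsupp.single 0 1 + Finsupp.single 1 1 ∨
        d = Finsupp.single 1 2 := by
      have h0 : d 0 = 0 ∨ d 0 = 1 ∨ d 0 = 2 := by omega
      rcases h0 with h0 | h0 | h0
      · right; right
        ext i; fin_cases i <;> simp <;> omega
      · right; left
        ext i; fin_cases i <;> simp <;> omega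
      · left
        ext i; fin_cases i <;> simp <;> omega
    rcases hcases with rfl | rfl | rfl
    · rw [if_pos rfl, if_neg h01.symm, if_neg h02.symm]; simp
    · rw [if_neg h01, if_pos rfl, if_neg h12.symm]; simp
    · rw [if_neg h02, if_neg h12, if_pos rfl]; simp

/-- The evaluation at the origin kills non-units detection: a polynomial vanishing at `0` is not a
unit. -/
theorem not_isUnit_of_eval_zero {f : MvPolynomial (Fin 2) K} (h : eval (fun _ => (0 : K)) f = 0) :
    ¬ IsUnit f := by
  intro hu
  have := hu.map (eval (fun _ => (0 : K)))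
  rw [h] at this
  exact not_isUnit_zero this

variable (q : MvPolynomial (Fin 2) K) (hq : q.IsHomogeneous 2) (hirr : Irreducible q)

include hq hirr

theorem coeff_ne_zero_of_irreducible : q.coeff (Finsupp.single 0 2) ≠ 0 := by
  intro ha
  have h := form_eq q hq
  rw [ha, map_zero, zero_mul, zero_add] at h
  have h2 : q = X 1 * (C (q.coeff (Finsupp.single 0 1 + Finsupp.single 1 1)) * X 0
      + C (q.coeff (Finsupp.single 1 2)) * X 1) := by
    generalize q.coeff (Finsupp.single 0 1 + Finsupp.single 1 1) = b at h ⊢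
    generalize q.coeff (Finsupp.single 1 2) = c₀ at h ⊢
    rw [h]; ring
  rcases hirr.isUnit_or_isUnit h2 with hu | hu
  · exact not_isUnit_of_eval_zero (by simp) hu
  · exact not_isUnit_of_eval_zero (by simp) hu

theorem irreducible_p : Irreducible (Quad.p (q.coeff (Finsupp.single 0 2))
    (q.coeff (Finsupp.single 0 1 + Finsupp.single 1 1)) (q.coeff (Finsupp.single 1 2))) := by
  set a := q.coeff (Finsupp.single 0 2) with ha_def
  set b := q.coeff (Finsupp.single 0 1 + Finsupp.single 1 1) with hb_def
  set c₀ := q.coeff (Finsupp.single 1 2) with hc_def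
  have ha : a ≠ 0 := coeff_ne_zero_of_irreducible q hq hirr
  have hdeg := Quad.natDegree_p a b c₀ ha
  rw [Polynomial.irreducible_iff_roots_eq_zero_of_degree_le_three (by omega) (by omega)]
  rw [Multiset.eq_zero_iff_forall_notMem]
  intro r hr
  have hr' : a * r ^ 2 + b * r + c₀ = 0 := by
    have := (Polynomial.mem_roots (Quad.p_ne_zero a b c₀ ha)).1 hr
    simpa [Quad.p, Polynomial.IsRoot] using this
  have h := form_eq q hq
  rw [← ha_def, ← hb_def, ← hc_def] at h
  have h2 : q = (X 0 - C r * X 1) * (C a * X 0 + C (a * r + b) * X 1) := by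
    rw [h]
    have hc : (C c₀ : MvPolynomial (Fin 2) K) = - C (a * r ^ 2 + b * r) := by
      rw [← map_neg]; congr 1; linear_combination hr'
    rw [hc]
    simp only [map_add, map_mul, map_pow]
    ring
  rcases hirr.isUnit_or_isUnit h2 with hu | hu
  · exact not_isUnit_of_eval_zero (by simp) hu
  · exact not_isUnit_of_eval_zero (by simp) hu

end Groth.Agent.Lib.Helper24.PLine
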