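import Groth.Agent.Lib.Helper24.PLine.Core

/-!
# Finite groups of automorphisms of a twisted form of `L[T;T⁻¹]`
-/

open LaurentPolynomial TensorProduct
open scoped Polynomial

namespace Groth.Agent.Lib.Helper24.PLine

variable {K L A : Type*} [Field K] [Field L] [Algebra K L] [CommRing A] [Algebra K A]

namespace Setup

variable (S : Setup K L A)

/-- A ring automorphism fixing `K`, as a `K`-algebra hom. -/
def toAlg (g : A ≃+* A) (hg : ∀ k : K, g (algebraMap K A k) = algebraMap K A k) : A →ₐ[K] A :=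
  { g.toRingHom with commutes' := hg }

@[simp] theorem toAlg_apply (g : A ≃+* A) (hg) (z : A) : toAlg (K := K) g hg z = g z := rfl

variable (G : Subgroup (A ≃+* A))
  (hG : ∀ g ∈ G, ∀ k : K, g (algebraMap K A k) = algebraMap K A k)

/-- The extension of `g ∈ G` to `L[T;T⁻¹]`. -/
noncomputable def ΛG (g : G) : L[T;T⁻¹] →ₐ[L] L[T;T⁻¹] :=
  S.Λ (toAlg g.1 (hG g.1 g.2))

theorem ΛG_one : S.ΛG G hG 1 = AlgHom.id L _ := by
  rw [← S.Λ_id]
  unfold ΛG
  congr 1

theorem ΛG_mul (g h : G) : S.ΛG G hG (g * h) = (S.ΛG G hG g).comp (S.ΛG G hG h) := by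
  unfold ΛG
  rw [← S.Λ_comp]
  congr 1

theorem ΛG_mul_apply (g h : G) (w : L[T;T⁻¹]) :
    S.ΛG G hG (g * h) w = S.ΛG G hG g (S.ΛG G hG h w) := by
  rw [ΛG_mul]; rfl

theorem ΛG_injective {g h : G} (H : S.ΛG G hG g = S.ΛG G hG h) : g = h := by
  have := S.Λ_injective H
  apply Subtype.ext
  apply RingEquiv.ext
  intro z
  have h2 := congrArg (fun F : A →ₐ[K] A => F z) this
  simpa using h2

theorem ΛG_eq_of_T {g h : G} (H : S.ΛG G hG g (T 1) = S.ΛG G hG h (T 1)) : g = h :=
  S.ΛG_injective G hG (algHom_ext_T H)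

theorem ΛG_cases (g : G) : ∃ c : L, c ≠ 0 ∧
    (S.ΛG G hG g (T 1) = C c * T 1 ∨ S.ΛG G hG g (T 1) = C c * T (-1)) := by
  apply exists_map_T_of_comp (S.ΛG G hG g) (S.ΛG G hG g⁻¹)
  rw [← ΛG_mul, mul_inv_cancel, ΛG_one]

theorem ΛG_pow_T {g : G} {c : L} (h : S.ΛG G hG g (T 1) = C c * T 1) (k : ℕ) :
    S.ΛG G hG (g ^ k) (T 1) = C (c ^ k) * T 1 := by
  induction k with
  | zero => rw [pow_zero, ΛG_one, pow_zero, map_one, one_mul]; rfl
  | succ k ih =>
    rw [pow_succ, ΛG_mul_apply, h, map_mul, map_C, ih, pow_succ, map_mul]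
    ring

variable [Finite G]

theorem mul_self_eq_one_of_plus {g : G} {c : L} (hc : c ≠ 0)
    (h : S.ΛG G hG g (T 1) = C c * T 1) : c * c = 1 := by
  have hm : 0 < orderOf g := orderOf_pos g
  have h1 := S.ΛG_pow_T G hG h (orderOf g)
  rw [pow_orderOf_eq_one, ΛG_one] at h1
  have h2 : (C (c ^ orderOf g) * T 1 : L[T;T⁻¹]) = C 1 * T 1 := by
    rw [← h1, map_one, one_mul]; rfl
  have h3 : c ^ orderOf g = 1 := (C_mul_T_inj (pow_ne_zero _ hc) h2).1
  obtain ⟨k, hk⟩ := S.roots _ hm c h3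
  have h4 : S.σ c = c := by rw [← hk, AlgHom.commutes]
  have h5 := S.σ_eq_inv hc h
  rw [h4] at h5
  calc c * c = c * c⁻¹ := by rw [← h5]
    _ = 1 := mul_inv_cancel₀ hc

include S hG

theorem sq_eq_one (g : G) : g * g = 1 := by
  apply S.ΛG_eq_of_T G hG
  rw [ΛG_one, ΛG_mul_apply]
  obtain ⟨c, hc, h | h⟩ := S.ΛG_cases G hG g
  · have hcc := S.mul_self_eq_one_of_plus G hG hc h
    rw [h, map_mul, map_C, h, ← mul_assoc, ← map_mul, hcc, map_one, one_mul]
    rfl
  · have hinv := map_T_inv (S.ΛG G hG g) hc h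
    rw [neg_neg] at hinv
    rw [h, map_mul, map_C, hinv, ← mul_assoc, ← map_mul, mul_inv_cancel₀ hc, map_one, one_mul]
    rfl

open Classical in
theorem card_le_four : Nat.card G ≤ 4 := by
  haveI : Fintype G := Fintype.ofFinite G
  rw [Nat.card_eq_fintype_card]
  -- the "plus" part
  let P : Finset G := Finset.univ.filter
    (fun g => ∃ c : L, S.ΛG G hG g (T 1) = C c * T 1)
  have hP : P.card ≤ 2 := by
    have hsub : ∀ g ∈ P, S.ΛG G hG g (T 1) = T 1 ∨ S.ΛG G hG g (T 1) = C (-1) * T 1 := by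
      intro g hg
      obtain ⟨c, hc⟩ := (Finset.mem_filter.1 hg).2
      have hc0 : c ≠ 0 := by
        rintro rfl
        rw [map_zero, zero_mul] at hc
        have hu : IsUnit (S.ΛG G hG g (T 1)) := (isUnit_T 1).map _
        rw [hc] at hu
        exact not_isUnit_zero hu
      have hcc := S.mul_self_eq_one_of_plus G hG hc0 hc
      rcases mul_self_eq_one_iff.1 hcc with rfl | rfl
      · left; rw [hc, map_one, one_mul]
      · right; exact hc
    -- inject into Bool
    let j : G → Bool := fun g => decide (S.ΛG G hG g (T 1) = T 1)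
    have hj : Set.InjOn j (P : Set G) := by
      intro g hg h hh hgh
      apply S.ΛG_eq_of_T G hG
      have h1 := hsub g hg
      have h2 := hsub h hh
      simp only [j, decide_eq_decide] at hgh
      rcases h1 with h1 | h1
      · rw [h1, hgh.1 h1]
      · rcases h2 with h2 | h2
        · rw [hgh.2 h2, h2]
        · rw [h1, h2]
    calc P.card ≤ (Finset.univ : Finset Bool).card :=
          Finset.card_le_card_of_injOn j (fun _ _ => Finset.mem_univ _) hj
      _ = 2 := by simp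
  have hPc : Pᶜ.card ≤ P.card := by
    by_cases hne : Pᶜ = ∅
    · rw [hne]; simp
    · obtain ⟨g₀, hg₀⟩ := Finset.nonempty_iff_ne_empty.2 hne
      have hminus : ∀ g ∈ Pᶜ, ∃ c : L, c ≠ 0 ∧ S.ΛG G hG g (T 1) = C c * T (-1) := by
        intro g hg
        obtain ⟨c, hc, h | h⟩ := S.ΛG_cases G hG g
        · exfalso
          rw [Finset.mem_compl] at hg
          exact hg (Finset.mem_filter.2 ⟨Finset.mem_univ _, c, h⟩)
        · exact ⟨c, hc, h⟩
      obtain ⟨c₀, hc₀, h₀⟩ := hminus g₀ hg₀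
      have hinv₀ := map_T_inv (S.ΛG G hG g₀) hc₀ h₀
      rw [neg_neg] at hinv₀
      apply Finset.card_le_card_of_injOn (fun h => g₀ * h)
      · intro h hh
        obtain ⟨c, hc, hh'⟩ := hminus h hh
        refine Finset.mem_filter.2 ⟨Finset.mem_univ _, c * c₀⁻¹, ?_⟩
        rw [ΛG_mul_apply, hh', map_mul, map_C, hinv₀, map_mul]
        ring
      · intro h _ h' _ hhh'
        exact mul_left_cancel hhh'
  have := Finset.card_add_card_compl P
  omega

theorem main : (∀ g ∈ G, g ^ 2 = 1) ∧ Nat.card G ≤ 4 := by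
  refine ⟨fun g hg => ?_, S.card_le_four G hG⟩
  have := S.sq_eq_one G hG ⟨g, hg⟩
  have h2 := congrArg Subtype.val this
  rw [pow_two]
  exact h2

end Setup

end Groth.Agent.Lib.Helper24.PLine
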