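import Mathlib

/-!
# Laurent polynomial facts used for S15179

* units of `L[T;T⁻¹]` (`L` a field) are `C c * T n`;
* `L`-algebra homs out of `L[T;T⁻¹]` are determined by the image of `T 1`;
* the twisted inversion `conj σ : C l ↦ C (σ l)`, `T n ↦ T (-n)`.
-/

open LaurentPolynomial
open scoped Polynomial

namespace Groth.Agent.Lib.Helper24.PLine

variable {L : Type*} [Field L]

theorem coeff_C_mul_T (c : L) (n m : ℤ) :
    (C c * T n : L[T;T⁻¹]).coeff m = if n = m then c else 0 := by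
  rw [← single_eq_C_mul_T, AddMonoidAlgebra.coeff_single, Finsupp.single_apply]

theorem C_mul_T_inj {c c' : L} {n n' : ℤ} (hc : c ≠ 0)
    (h : (C c * T n : L[T;T⁻¹]) = C c' * T n') : c = c' ∧ n = n' := by
  have h1 := congrArg (fun w : L[T;T⁻¹] => w.coeff n) h
  simp only [coeff_C_mul_T, if_true] at h1
  by_cases hn : n' = n
  · subst hn
    simp only [if_true] at h1
    exact ⟨h1, rfl⟩
  · rw [if_neg hn] at h1
    exact absurd h1 hc

theorem exists_of_isUnit {w : L[T;T⁻¹]} (hw : IsUnit w) :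
    ∃ c : L, c ≠ 0 ∧ ∃ n : ℤ, w = C c * T n := by
  obtain ⟨w', hww'⟩ := hw.exists_right_inv
  obtain ⟨m, f, hf⟩ := exists_T_pow w
  obtain ⟨m', f', hf'⟩ := exists_T_pow w'
  have hprod : f * f' = (Polynomial.X : L[X]) ^ (m + m') := by
    apply Polynomial.toLaurent_injective
    rw [map_mul, hf, hf', Polynomial.toLaurent_X_pow]
    calc w * T m * (w' * T m') = (w * w') * (T m * T m') := by ring
      _ = T ((m + m' : ℕ) : ℤ) := by rw [hww', one_mul, ← T_add]; push_cast; rfl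
  have hdvd : f ∣ (Polynomial.X : L[X]) ^ (m + m') := ⟨f', hprod.symm⟩
  obtain ⟨i, _, hi⟩ := (dvd_prime_pow Polynomial.prime_X _).1 hdvd
  obtain ⟨u, hu⟩ := hi.symm
  obtain ⟨c, hc, hcu⟩ := Polynomial.isUnit_iff.1 u.isUnit
  refine ⟨c, hc.ne_zero, (i : ℤ) - m, ?_⟩
  have h1 : w * T m = T i * C c := by
    rw [← hf, ← hu, ← hcu, map_mul, Polynomial.toLaurent_X_pow, Polynomial.toLaurent_C]
  calc w = (w * T m) * T (-m) := by rw [mul_T_assoc, add_neg_cancel, T_zero, mul_one]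
    _ = C c * T (i - m) := by rw [h1, sub_eq_add_neg, T_add]; ring

section Hom

variable {R : Type*} [CommRing R] [Algebra L R]

theorem algHom_ext_T {f g : L[T;T⁻¹] →ₐ[L] R} (h : f (T 1) = g (T 1)) : f = g := by
  have hinv : f (T (-1)) = g (T (-1)) := by
    have h1 : f (T 1) * f (T (-1)) = 1 := by
      rw [← map_mul, ← T_add]; simp
    have h2 : g (T 1) * g (T (-1)) = 1 := by
      rw [← map_mul, ← T_add]; simp
    calc f (T (-1)) = (g (T 1) * g (T (-1))) * f (T (-1)) := by rw [h2, one_mul]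
      _ = g (T (-1)) * (f (T 1) * f (T (-1))) := by rw [← h]; ring
      _ = g (T (-1)) := by rw [h1, mul_one]
  have hpos : ∀ n : ℕ, f (T n) = g (T n) := by
    intro n
    have : (T (n : ℤ) : L[T;T⁻¹]) = T 1 ^ n := by rw [T_pow]; simp
    rw [this, map_pow, map_pow, h]
  have hneg : ∀ n : ℕ, f (T (-n)) = g (T (-n)) := by
    intro n
    have : (T (-(n : ℤ)) : L[T;T⁻¹]) = T (-1) ^ n := by rw [T_pow]; simp
    rw [this, map_pow, map_pow, hinv]
  have hall : ∀ n : ℤ, f (T n) = g (T n) := by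
    intro n
    rcases Int.eq_nat_or_neg n with ⟨k, rfl | rfl⟩
    · exact hpos k
    · exact hneg k
  apply AlgHom.ext
  intro p
  induction p using LaurentPolynomial.induction_on' with
  | add p q hp hq => rw [map_add, map_add, hp, hq]
  | C_mul_T n a =>
    rw [map_mul, map_mul, hall n, C_eq_algebraMap, AlgHom.commutes, AlgHom.commutes]

end Hom

section Endo

variable (Λ : L[T;T⁻¹] →ₐ[L] L[T;T⁻¹])

theorem exists_map_T : ∃ c : L, c ≠ 0 ∧ ∃ n : ℤ, Λ (T 1) = C c * T n :=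
  exists_of_isUnit ((isUnit_T 1).map Λ)

theorem map_C (l : L) : Λ (C l) = C l := by
  rw [C_eq_algebraMap, AlgHom.commutes]

theorem map_T_zpow {c : L} (hc : c ≠ 0) {n : ℤ} (h : Λ (T 1) = C c * T n) (m : ℤ) :
    Λ (T m) = C (c ^ m) * T (n * m) := by
  have hinv : Λ (T (-1)) = C c⁻¹ * T (-n) := by
    have h1 : Λ (T 1) * Λ (T (-1)) = 1 := by
      rw [← map_mul, ← T_add]; simp
    have h2 : (C c * T n : L[T;T⁻¹]) * (C c⁻¹ * T (-n)) = 1 := by
      calc (C c * T n : L[T;T⁻¹]) * (C c⁻¹ * T (-n)) = C (c * c⁻¹) * (T n * T (-n)) := by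
            rw [map_mul]; ring
        _ = 1 := by rw [mul_inv_cancel₀ hc, ← T_add, add_neg_cancel, T_zero, map_one, one_mul]
    calc Λ (T (-1)) = ((C c * T n) * (C c⁻¹ * T (-n))) * Λ (T (-1)) := by rw [h2, one_mul]
      _ = (C c⁻¹ * T (-n)) * (Λ (T 1) * Λ (T (-1))) := by rw [h]; ring
      _ = C c⁻¹ * T (-n) := by rw [h1, mul_one]
  induction m using Int.induction_on with
  | zero => simp
  | succ k ih =>
    rw [T_add, map_mul, ih, h, zpow_add_one₀ hc, map_mul, mul_add, mul_one, T_add]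
    ring
  | pred k ih =>
    rw [sub_eq_add_neg, T_add, map_mul, ih, hinv, ← sub_eq_add_neg, zpow_sub_one₀ hc, map_mul,
      mul_sub, mul_one, sub_eq_add_neg, T_add]
    ring

theorem map_T_inv {c : L} (hc : c ≠ 0) {n : ℤ} (h : Λ (T 1) = C c * T n) :
    Λ (T (-1)) = C c⁻¹ * T (-n) := by
  have := map_T_zpow Λ hc h (-1)
  simpa using this

/-- If `Λ` has a right inverse, then `Λ (T 1) = C c * T (±1)`. -/
theorem exists_map_T_of_comp (Λ' : L[T;T⁻¹] →ₐ[L] L[T;T⁻¹]) (h : Λ.comp Λ' = AlgHom.id L _) :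
    ∃ c : L, c ≠ 0 ∧ (Λ (T 1) = C c * T 1 ∨ Λ (T 1) = C c * T (-1)) := by
  obtain ⟨c, hc, n, hn⟩ := exists_map_T Λ
  obtain ⟨c', hc', n', hn'⟩ := exists_map_T Λ'
  have h1 : Λ (Λ' (T 1)) = T 1 := by
    have := congrArg (fun F : L[T;T⁻¹] →ₐ[L] L[T;T⁻¹] => F (T 1)) h
    simpa using this
  rw [hn', map_mul, map_C, map_T_zpow Λ hc hn n'] at h1
  have h2 : (C (c' * c ^ n') * T (n * n') : L[T;T⁻¹]) = C 1 * T 1 := by
    rw [map_mul, mul_assoc, h1, map_one, one_mul]
  have hne : c' * c ^ n' ≠ 0 := mul_ne_zero hc' (zpow_ne_zero _ hc)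
  obtain ⟨_, hnn⟩ := C_mul_T_inj hne h2
  refine ⟨c, hc, ?_⟩
  rcases Int.eq_one_or_neg_one_of_mul_eq_one hnn with h | h
  · left; rw [hn, h]
  · right; rw [hn, h]

end Endo

section Conj

variable (σ : L →+* L)

/-- The twisted inversion: `σ` on coefficients and `T ↦ T⁻¹`. -/
noncomputable def conj : L[T;T⁻¹] →+* L[T;T⁻¹] :=
  (invert (R := L)).toAlgHom.toRingHom.comp (AddMonoidAlgebra.mapRingHom ℤ σ)

theorem conj_C (l : L) : conj σ (C l) = C (σ l) := by
  rw [conj, RingHom.comp_apply, ← single_eq_C, AddMonoidAlgebra.mapRingHom_single, single_eq_C]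
  exact invert_C _

theorem conj_T (n : ℤ) : conj σ (T n) = T (-n) := by
  rw [conj, RingHom.comp_apply, T, AddMonoidAlgebra.mapRingHom_single, map_one]
  exact invert_T _

end Conj

end Groth.Agent.Lib.Helper24.PLine
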