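import Groth.Agent.Lib.Helper24.PLine.Psi
import Groth.Agent.Lib.Helper24.PLine.Form
import Groth.Agent.Lib.Helper24.PLine.Group

/-!
# The coordinate ring of `P¹ ∖ {q = 0}` as a `Setup`
-/

open LaurentPolynomial
open scoped Polynomial

attribute [local instance] MvPolynomial.gradedAlgebra

namespace Groth.Agent.Lib.Helper24.PLine

universe u

variable {K : Type u} [Field K] (q : MvPolynomial (Fin 2) K)

/-- The coordinate ring. -/
abbrev AA := HomogeneousLocalization.Away (MvPolynomial.homogeneousSubmodule (Fin 2) K) q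

theorem smul_one_val (k : K) :
    (k • (1 : AA q)).val = algebraMap K (Localization.Away q) k := by
  rw [HomogeneousLocalization.val_smul, HomogeneousLocalization.val_one, Algebra.smul_def, mul_one]

/-- The structure map `K → A`. -/
noncomputable def ιA : K →+* AA q where
  toFun k := k • (1 : AA q)
  map_one' := by
    apply HomogeneousLocalization.val_injective
    rw [smul_one_val, map_one, HomogeneousLocalization.val_one]
  map_mul' k k' := by
    apply HomogeneousLocalization.val_injective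
    rw [HomogeneousLocalization.val_mul, smul_one_val, smul_one_val, smul_one_val, map_mul]
  map_zero' := by
    apply HomogeneousLocalization.val_injective
    rw [smul_one_val, map_zero, HomogeneousLocalization.val_zero]
  map_add' k k' := by
    apply HomogeneousLocalization.val_injective
    rw [HomogeneousLocalization.val_add, smul_one_val, smul_one_val, smul_one_val, map_add]

/-- The `K`-algebra structure on `A`. -/
@[reducible] noncomputable def algA : Algebra K (AA q) := (ιA q).toAlgebra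

theorem ιA_val (k : K) : (ιA q k).val = algebraMap K (Localization.Away q) k := smul_one_val q k

variable (a b c₀ : K) [hirr : Fact (Irreducible (Quad.p a b c₀))]
  (hform : q = MvPolynomial.C a * MvPolynomial.X 0 ^ 2 + MvPolynomial.C b * MvPolynomial.X 0 *
      MvPolynomial.X 1 + MvPolynomial.C c₀ * MvPolynomial.X 1 ^ 2)
  (ha : a ≠ 0) (hdisc : b ^ 2 - 4 * a * c₀ ≠ 0)

local notation "LL" => Quad.L a b c₀

include hform ha in
theorem Ψ_q : Ψ a b c₀ q = C (κ a b c₀) * T 1 := by
  rw [hform]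
  exact Ψ_form a b c₀ ha

include hform ha hdisc in
theorem isUnit_Ψ_q : IsUnit ((Ψ a b c₀ : MvPolynomial (Fin 2) K →+* LL[T;T⁻¹]) q) := by
  show IsUnit (Ψ a b c₀ q)
  rw [Ψ_q q a b c₀ hform ha]
  exact ((κ_ne_zero a b c₀ ha hdisc).isUnit.map C).mul (isUnit_T 1)

/-- The comparison map as a ring hom. -/
noncomputable def φ₀ : AA q →+* LL[T;T⁻¹] :=
  (IsLocalization.Away.lift (S := Localization.Away q) q
    (isUnit_Ψ_q q a b c₀ hform ha hdisc)).comp (algebraMap (AA q) (Localization.Away q))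

include hform in
theorem q_mem : q ∈ MvPolynomial.homogeneousSubmodule (Fin 2) K 2 := by
  rw [hform, MvPolynomial.mem_homogeneousSubmodule]
  refine ((MvPolynomial.isHomogeneous_X_pow 0 2).C_mul a |>.add ?_).add
    ((MvPolynomial.isHomogeneous_X_pow 1 2).C_mul c₀)
  rw [mul_assoc]
  exact ((MvPolynomial.isHomogeneous_X K 0).mul (MvPolynomial.isHomogeneous_X K 1)).C_mul b

theorem φ₀_mk (k : ℕ) (f : MvPolynomial (Fin 2) K)
    (hf : f ∈ MvPolynomial.homogeneousSubmodule (Fin 2) K (k • 2)) :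
    φ₀ q a b c₀ hform ha hdisc (HomogeneousLocalization.Away.mk _ (q_mem q a b c₀ hform) k f hf)
      * Ψ a b c₀ q ^ k = Ψ a b c₀ f := by
  have h1 : (HomogeneousLocalization.Away.mk _ (q_mem q a b c₀ hform) k f hf).val
      * algebraMap _ (Localization.Away q) (q ^ k) = algebraMap _ (Localization.Away q) f := by
    rw [HomogeneousLocalization.Away.val_mk, Localization.mk_eq_mk']
    exact IsLocalization.mk'_spec _ _ _
  have h2 := congrArg (IsLocalization.Away.lift (S := Localization.Away q) q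
    (isUnit_Ψ_q q a b c₀ hform ha hdisc)) h1
  rw [map_mul, IsLocalization.Away.lift_eq, IsLocalization.Away.lift_eq, map_pow] at h2
  exact h2

theorem φ₀_ιA (k : K) :
    φ₀ q a b c₀ hform ha hdisc (ιA q k) = algebraMap K LL[T;T⁻¹] k := by
  have h1 : (ιA q k).val = algebraMap (MvPolynomial (Fin 2) K) (Localization.Away q)
      (MvPolynomial.C k) := by
    rw [ιA_val, IsScalarTower.algebraMap_apply K (MvPolynomial (Fin 2) K) (Localization.Away q),
      MvPolynomial.algebraMap_eq]
  show IsLocalization.Away.lift (S := Localization.Away q) q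
    (isUnit_Ψ_q q a b c₀ hform ha hdisc) ((ιA q k).val) = _
  rw [h1, IsLocalization.Away.lift_eq]
  show Ψ a b c₀ (MvPolynomial.C k) = _
  rw [Ψ_C, algebraMap_eq]

/-- The comparison map as a `K`-algebra hom. -/
noncomputable def φA : @AlgHom K (AA q) LL[T;T⁻¹] _ _ _ (algA q) _ :=
  letI := algA q
  { φ₀ q a b c₀ hform ha hdisc with
    commutes' := fun k => φ₀_ιA q a b c₀ hform ha hdisc k }

theorem φ₀_injective : Function.Injective (φ₀ q a b c₀ hform ha hdisc) := by
  rw [injective_iff_map_eq_zero]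
  intro z hz
  obtain ⟨k, f, hf, rfl⟩ := HomogeneousLocalization.Away.mk_surjective _ (q_mem q a b c₀ hform) z
  have h1 := φ₀_mk q a b c₀ hform ha hdisc k f hf
  rw [hz, zero_mul] at h1
  have hf' : f.IsHomogeneous (k • 2) := (MvPolynomial.mem_homogeneousSubmodule _ _).1 hf
  have hf0 : f = 0 := Ψ_injective_of_isHomogeneous a b c₀ ha hdisc hf' h1.symm
  subst hf0
  apply HomogeneousLocalization.val_injective
  rw [HomogeneousLocalization.Away.val_mk, HomogeneousLocalization.val_zero, Localization.mk_zero]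

include hform ha hdisc in
theorem isUnit_Ψ_q' : IsUnit (Ψ a b c₀ q) := isUnit_Ψ_q q a b c₀ hform ha hdisc

theorem φ₀_conj (z : AA q) :
    conj (AlgHom.toRingHom (Quad.σ a b c₀ ha)) (φ₀ q a b c₀ hform ha hdisc z)
      = φ₀ q a b c₀ hform ha hdisc z := by
  obtain ⟨k, f, hf, rfl⟩ := HomogeneousLocalization.Away.mk_surjective _ (q_mem q a b c₀ hform) z
  have h1 := φ₀_mk q a b c₀ hform ha hdisc k f hf
  have hf' : f.IsHomogeneous (k • 2) := (MvPolynomial.mem_homogeneousSubmodule _ _).1 hf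
  have hq' : q.IsHomogeneous 2 :=
    (MvPolynomial.mem_homogeneousSubmodule _ _).1 (q_mem q a b c₀ hform)
  have h2 := congrArg (conj (AlgHom.toRingHom (Quad.σ a b c₀ ha))) h1
  rw [map_mul, map_pow, conj_Ψ a b c₀ ha hf', conj_Ψ a b c₀ ha hq', ← h1] at h2
  have hu : IsUnit ((-T (-1) : LL[T;T⁻¹]) ^ (k • 2) * Ψ a b c₀ q ^ k) :=
    (((isUnit_T (R := LL) (-1)).neg).pow _).mul ((isUnit_Ψ_q' q a b c₀ hform ha hdisc).pow _)
  apply hu.mul_right_cancel
  rw [smul_eq_mul] at h2 ⊢
  rw [mul_pow, ← pow_mul, mul_comm 2 k] at h2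
  linear_combination h2

theorem num₁_mem : (MvPolynomial.C a * MvPolynomial.X 0 ^ 2 - MvPolynomial.C c₀ * MvPolynomial.X 1 ^ 2
    : MvPolynomial (Fin 2) K) ∈ MvPolynomial.homogeneousSubmodule (Fin 2) K (1 • 2) := by
  rw [MvPolynomial.mem_homogeneousSubmodule]
  exact ((MvPolynomial.isHomogeneous_X_pow 0 2).C_mul a).sub
    ((MvPolynomial.isHomogeneous_X_pow 1 2).C_mul c₀)

theorem num₂_mem : (-(2 * MvPolynomial.C a * MvPolynomial.X 0 * MvPolynomial.X 1)
        - MvPolynomial.C b * MvPolynomial.X 1 ^ 2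
    : MvPolynomial (Fin 2) K) ∈ MvPolynomial.homogeneousSubmodule (Fin 2) K (1 • 2) := by
  rw [MvPolynomial.mem_homogeneousSubmodule]
  refine MvPolynomial.IsHomogeneous.sub (MvPolynomial.IsHomogeneous.neg ?_)
    ((MvPolynomial.isHomogeneous_X_pow 1 2).C_mul b)
  have : (2 * MvPolynomial.C a * MvPolynomial.X 0 * MvPolynomial.X 1 : MvPolynomial (Fin 2) K)
      = MvPolynomial.C (2 * a) * (MvPolynomial.X 0 * MvPolynomial.X 1) := by
    rw [map_mul, map_ofNat]; ring
  rw [this]
  exact ((MvPolynomial.isHomogeneous_X K 0).mul (MvPolynomial.isHomogeneous_X K 1)).C_mul _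

/-- first auxiliary element of `A` -/
noncomputable def el₁ : AA q :=
  HomogeneousLocalization.Away.mk _ (q_mem q a b c₀ hform) 1 _ (num₁_mem a c₀)

/-- second auxiliary element of `A` -/
noncomputable def el₂ : AA q :=
  HomogeneousLocalization.Away.mk _ (q_mem q a b c₀ hform) 1 _ (num₂_mem a b)

theorem hT₁ : (T 1 : LL[T;T⁻¹]) = φ₀ q a b c₀ hform ha hdisc (el₁ q a b c₀ hform)
    + C (Quad.α a b c₀) * φ₀ q a b c₀ hform ha hdisc (el₂ q a b c₀ hform) := by
  have h1 := φ₀_mk q a b c₀ hform ha hdisc 1 _ (num₁_mem a c₀)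
  have h2 := φ₀_mk q a b c₀ hform ha hdisc 1 _ (num₂_mem a b)
  have h3 := Ψ_num₁ a b c₀ ha
  rw [← h1, ← h2, pow_one] at h3
  have hq := Ψ_q q a b c₀ hform ha
  apply (isUnit_Ψ_q' q a b c₀ hform ha hdisc).mul_right_cancel
  rw [el₁, el₂]
  rw [hq] at h3 ⊢
  linear_combination -h3

theorem hT₂ : (T (-1) : LL[T;T⁻¹]) = φ₀ q a b c₀ hform ha hdisc (el₁ q a b c₀ hform)
    + C (Quad.β a b c₀) * φ₀ q a b c₀ hform ha hdisc (el₂ q a b c₀ hform) := by
  have h1 := φ₀_mk q a b c₀ hform ha hdisc 1 _ (num₁_mem a c₀)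
  have h2 := φ₀_mk q a b c₀ hform ha hdisc 1 _ (num₂_mem a b)
  have h3 := Ψ_num₂ a b c₀ ha
  rw [← h1, ← h2, pow_one] at h3
  have hq := Ψ_q q a b c₀ hform ha
  have ht := T_mul_T' a b c₀
  apply (isUnit_Ψ_q' q a b c₀ hform ha hdisc).mul_right_cancel
  rw [el₁, el₂]
  rw [hq] at h3 ⊢
  linear_combination (C (κ a b c₀)) * ht - h3

/-- The `Setup` attached to the quadratic form `q`. -/
noncomputable def setup
    (hK : ∀ n : ℕ, 0 < n → (Polynomial.X ^ n - 1 : Polynomial K).Splits) :
    @Setup K LL (AA q) _ _ _ _ (algA q) :=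
  letI := algA q
  { σ := Quad.σ a b c₀ ha
    α := Quad.α a b c₀
    β := Quad.β a b c₀
    σα := Quad.σ_α a b c₀ ha
    hne := Quad.α_ne_β a b c₀ ha hdisc
    span := Quad.span a b c₀ ha
    φ := φA q a b c₀ hform ha hdisc
    φ_inj := φ₀_injective q a b c₀ hform ha hdisc
    φ_conj := φ₀_conj q a b c₀ hform ha hdisc
    a₁ := el₁ q a b c₀ hform
    a₂ := el₂ q a b c₀ hform
    hT := hT₁ q a b c₀ hform ha hdisc
    hT' := hT₂ q a b c₀ hform ha hdisc
    roots := Quad.roots a b c₀ hK }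

end Groth.Agent.Lib.Helper24.PLine

namespace Groth.Agent.Lib.Helper24.PLine

universe u

open MvPolynomial in
theorem final (K : Type u) [Field K]
    (hK : ∀ n : ℕ, 0 < n → (Polynomial.X ^ n - 1 : Polynomial K).Splits)
    (q : MvPolynomial (Fin 2) K) (hq : q.IsHomogeneous 2) (hirr : Irreducible q)
    (hdisc : (q.coeff (Finsupp.single 0 1 + Finsupp.single 1 1)) ^ 2 -
      4 * q.coeff (Finsupp.single 0 2) * q.coeff (Finsupp.single 1 2) ≠ 0)
    (G : Subgroup (AA q ≃+* AA q)) [Finite G]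
    (hG : ∀ g ∈ G, ∀ (k : K) (z : AA q), g (k • z) = k • g z) :
    (∀ g ∈ G, g ^ 2 = 1) ∧ Nat.card G ≤ 4 := by
  have ha := coeff_ne_zero_of_irreducible q hq hirr
  haveI : Fact (Irreducible (Quad.p (q.coeff (Finsupp.single 0 2))
    (q.coeff (Finsupp.single 0 1 + Finsupp.single 1 1)) (q.coeff (Finsupp.single 1 2)))) :=
    ⟨irreducible_p q hq hirr⟩
  have hform := form_eq q hq
  letI := algA q
  have hG' : ∀ g ∈ G, ∀ k : K, g (algebraMap K (AA q) k) = algebraMap K (AA q) k := by
    intro g hg k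
    show g (k • (1 : AA q)) = k • (1 : AA q)
    rw [hG g hg, map_one]
  exact (setup q _ _ _ hform ha hdisc hK).main G hG'

end Groth.Agent.Lib.Helper24.PLine
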