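import Groth.Agent.Lib.Helper24.PLine.Quad
import Groth.Agent.Lib.Helper24.PLine.Laurent

/-!
# The map `Ψ : K[x,y] → L[T;T⁻¹]`, `x ↦ α - β T`, `y ↦ 1 - T`
-/

open LaurentPolynomial
open scoped Polynomial

namespace Groth.Agent.Lib.Helper24.PLine

variable {K : Type*} [Field K] (a b c₀ : K) [hirr : Fact (Irreducible (Quad.p a b c₀))]

local notation "LL" => Quad.L a b c₀
local notation "ι" => algebraMap K (Quad.L a b c₀)
local notation "α" => Quad.α a b c₀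
local notation "β" => Quad.β a b c₀

/-- image of `x` -/
noncomputable def x₀ : LL[T;T⁻¹] := C α - C β * T 1
/-- image of `y` -/
noncomputable def x₁ : LL[T;T⁻¹] := 1 - T 1

/-- The map `Ψ`. -/
noncomputable def Ψ : MvPolynomial (Fin 2) K →ₐ[K] LL[T;T⁻¹] :=
  MvPolynomial.aeval (fun i => if i = 0 then x₀ a b c₀ else x₁ a b c₀)

theorem Ψ_X0 : Ψ a b c₀ (MvPolynomial.X 0) = x₀ a b c₀ := by
  rw [Ψ, MvPolynomial.aeval_X]; simp

theorem Ψ_X1 : Ψ a b c₀ (MvPolynomial.X 1) = x₁ a b c₀ := by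
  rw [Ψ, MvPolynomial.aeval_X]; simp

theorem algebraMap_eq (k : K) : algebraMap K LL[T;T⁻¹] k = C (ι k) := by
  rw [C_eq_algebraMap, ← IsScalarTower.algebraMap_apply]

theorem Ψ_C (k : K) : Ψ a b c₀ (MvPolynomial.C k) = C (ι k) := by
  rw [Ψ, MvPolynomial.aeval_C, algebraMap_eq]

theorem Ψ_expand (f : MvPolynomial (Fin 2) K) :
    Ψ a b c₀ f = ∑ d ∈ f.support, C (ι (f.coeff d)) * x₀ a b c₀ ^ d 0 * x₁ a b c₀ ^ d 1 := by
  rw [Ψ, MvPolynomial.aeval_def, MvPolynomial.eval₂_eq']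
  apply Finset.sum_congr rfl
  intro d _
  rw [Fin.prod_univ_two, algebraMap_eq, mul_assoc]
  simp

theorem T_mul_T' : (T 1 : LL[T;T⁻¹]) * T (-1) = 1 := by
  rw [← T_add]; simp

theorem x₁_ne_zero : x₁ a b c₀ ≠ 0 := by
  intro h
  have := congrArg (fun w : LL[T;T⁻¹] => w.coeff 0) h
  simp [x₁] at this

/-- evaluation at `T = 1` -/
noncomputable def ev₁ : LL[T;T⁻¹] →+* LL := LaurentPolynomial.eval₂ (RingHom.id _) (1 : LLˣ)

theorem ev₁_C (l : LL) : ev₁ a b c₀ (C l) = l := by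
  rw [ev₁, eval₂_C]; rfl

theorem ev₁_T (n : ℤ) : ev₁ a b c₀ (T n) = 1 := by
  rw [ev₁, eval₂_T]; simp

theorem ev₁_x₀ : ev₁ a b c₀ (x₀ a b c₀) = α - β := by
  rw [x₀, map_sub, map_mul, ev₁_C, ev₁_C, ev₁_T, mul_one]

theorem ev₁_x₁ : ev₁ a b c₀ (x₁ a b c₀) = 0 := by
  rw [x₁, map_sub, map_one, ev₁_T, sub_self]

theorem Ψ_injective_of_isHomogeneous (ha : a ≠ 0) (hdisc : b ^ 2 - 4 * a * c₀ ≠ 0)
    {f : MvPolynomial (Fin 2) K} {n : ℕ}
    (hf : f.IsHomogeneous n) (h : Ψ a b c₀ f = 0) : f = 0 := by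
  classical
  by_contra hne
  have hsupp : f.support.Nonempty := by
    rw [Finset.nonempty_iff_ne_empty]
    intro h0
    exact hne (MvPolynomial.support_eq_empty.1 h0)
  obtain ⟨d₀, hd₀, hmin⟩ := Finset.exists_min_image f.support (fun d => d 1) hsupp
  set m := d₀ 1 with hm
  have hdeg : ∀ d ∈ f.support, d 0 + d 1 = n := by
    intro d hd
    have hdd : d.degree = n := by
      by_contra hne'
      exact (MvPolynomial.mem_support_iff.1 hd) (hf.coeff_eq_zero hne')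
    rw [Finsupp.degree_eq_sum, Fin.sum_univ_two] at hdd
    exact hdd
  set R : LL[T;T⁻¹] := ∑ d ∈ f.support,
    C (ι (f.coeff d)) * x₀ a b c₀ ^ d 0 * x₁ a b c₀ ^ (d 1 - m) with hR
  have h1 : Ψ a b c₀ f = x₁ a b c₀ ^ m * R := by
    rw [Ψ_expand, hR, Finset.mul_sum]
    apply Finset.sum_congr rfl
    intro d hd
    have hle : m ≤ d 1 := hmin d hd
    have : x₁ a b c₀ ^ d 1 = x₁ a b c₀ ^ m * x₁ a b c₀ ^ (d 1 - m) := by
      rw [← pow_add, Nat.add_sub_cancel' hle]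
    rw [this]; ring
  rw [h1] at h
  have hR0 : R = 0 := by
    rcases mul_eq_zero.1 h with h | h
    · exact absurd (eq_zero_of_pow_eq_zero h) (x₁_ne_zero a b c₀)
    · exact h
  have h2 : ev₁ a b c₀ R = ι (f.coeff d₀) * (α - β) ^ d₀ 0 := by
    rw [hR, map_sum, Finset.sum_eq_single d₀]
    · rw [map_mul, map_mul, map_pow, map_pow, ev₁_C, ev₁_x₀, hm, Nat.sub_self, pow_zero, mul_one]
    · intro d hd hdne
      have hpos : d 1 - m ≠ 0 := by
        intro h0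
        apply hdne
        have h3 : d 1 = d₀ 1 := by
          have := hmin d hd
          omega
        have h4 := hdeg d hd
        have h5 := hdeg d₀ hd₀
        ext i
        fin_cases i
        · show d 0 = d₀ 0
          omega
        · exact h3
      rw [map_mul, map_pow (ev₁ a b c₀) (x₁ a b c₀), ev₁_x₁, zero_pow hpos, mul_zero]
    · intro hnot
      exact absurd hd₀ hnot
  rw [hR0, map_zero] at h2
  have hc : f.coeff d₀ ≠ 0 := MvPolynomial.mem_support_iff.1 hd₀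
  have hαβ : α - β ≠ 0 := sub_ne_zero.2 (Quad.α_ne_β a b c₀ ha hdisc)
  rcases mul_eq_zero.1 h2.symm with h | h
  · exact hc ((map_eq_zero _).1 h)
  · exact hαβ (eq_zero_of_pow_eq_zero h)

section Conj

variable (ha : a ≠ 0)

local notation "σ'" => AlgHom.toRingHom (Quad.σ a b c₀ ha)

theorem conj_x₀ : conj σ' (x₀ a b c₀) = -T (-1) * x₀ a b c₀ := by
  have ht := T_mul_T' a b c₀
  have h1 : σ' α = β := Quad.σ_α a b c₀ ha
  have h2 : σ' β = α := Quad.σ_β a b c₀ ha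
  rw [x₀, map_sub, map_mul, conj_C, conj_C, conj_T, h1, h2]
  linear_combination (-(C β)) * ht

theorem conj_x₁ : conj σ' (x₁ a b c₀) = -T (-1) * x₁ a b c₀ := by
  have ht := T_mul_T' a b c₀
  rw [x₁, map_sub, map_one, conj_T]
  linear_combination (-1 : LL[T;T⁻¹]) * ht

theorem conj_Ψ {f : MvPolynomial (Fin 2) K} {n : ℕ} (hf : f.IsHomogeneous n) :
    conj σ' (Ψ a b c₀ f) = (-T (-1)) ^ n * Ψ a b c₀ f := by
  rw [Ψ_expand, map_sum, Finset.mul_sum]
  apply Finset.sum_congr rfl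
  intro d hd
  have hdd : d.degree = n := by
    by_contra hne'
    exact (MvPolynomial.mem_support_iff.1 hd) (hf.coeff_eq_zero hne')
  rw [Finsupp.degree_eq_sum, Fin.sum_univ_two] at hdd
  have hk : σ' (ι (f.coeff d)) = ι (f.coeff d) := (Quad.σ a b c₀ ha).commutes _
  rw [map_mul, map_mul, map_pow, map_pow, conj_C, conj_x₀, conj_x₁, hk, ← hdd, pow_add,
    mul_pow, mul_pow]
  ring

end Conj

section Formulas

local notation "t" => (T 1 : LL[T;T⁻¹])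

theorem Hα : (C (ι a) * C α ^ 2 + C (ι b) * C α + C (ι c₀) : LL[T;T⁻¹]) = 0 := by
  rw [← map_pow, ← map_mul, ← map_mul, ← map_add, ← map_add, Quad.hα, map_zero]

theorem Hβ (ha : a ≠ 0) : (C (ι a) * C β ^ 2 + C (ι b) * C β + C (ι c₀) : LL[T;T⁻¹]) = 0 := by
  rw [← map_pow, ← map_mul, ← map_mul, ← map_add, ← map_add, Quad.hβ a b c₀ ha, map_zero]

/-- `κ = a (α - β)²`. -/
noncomputable def κ : LL := ι a * (α - β) ^ 2

theorem κ_ne_zero (ha : a ≠ 0) (hdisc : b ^ 2 - 4 * a * c₀ ≠ 0) : κ a b c₀ ≠ 0 :=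
  mul_ne_zero (Quad.ιa_ne_zero b c₀ ha)
    (pow_ne_zero _ (sub_ne_zero.2 (Quad.α_ne_β a b c₀ ha hdisc)))

theorem C_κ : (C (κ a b c₀) : LL[T;T⁻¹]) = C (ι a) * (C α - C β) ^ 2 := by
  rw [κ, map_mul, map_pow, map_sub]

theorem Ψ_form (ha : a ≠ 0) :
    Ψ a b c₀ (MvPolynomial.C a * MvPolynomial.X 0 ^ 2 + MvPolynomial.C b * MvPolynomial.X 0 *
      MvPolynomial.X 1 + MvPolynomial.C c₀ * MvPolynomial.X 1 ^ 2) = C (κ a b c₀) * t := by
  have h1 := Hα a b c₀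
  have h2 := Hβ a b c₀ ha
  simp only [map_add, map_mul, map_pow, Ψ_C, Ψ_X0, Ψ_X1, C_κ, x₀, x₁]
  linear_combination (1 - t) * h1 + (t ^ 2 - t) * h2

theorem Ψ_num₁ (ha : a ≠ 0) :
    Ψ a b c₀ (MvPolynomial.C a * MvPolynomial.X 0 ^ 2 - MvPolynomial.C c₀ * MvPolynomial.X 1 ^ 2)
      + C α * Ψ a b c₀ (-(2 * MvPolynomial.C a * MvPolynomial.X 0 * MvPolynomial.X 1)
        - MvPolynomial.C b * MvPolynomial.X 1 ^ 2) = C (κ a b c₀) * t ^ 2 := by
  have h1 := Hα a b c₀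
  simp only [map_add, map_sub, map_neg, map_mul, map_pow, map_ofNat, Ψ_C, Ψ_X0, Ψ_X1, C_κ, x₀, x₁]
  linear_combination (-(1 - t) ^ 2) * h1

theorem Ψ_num₂ (ha : a ≠ 0) :
    Ψ a b c₀ (MvPolynomial.C a * MvPolynomial.X 0 ^ 2 - MvPolynomial.C c₀ * MvPolynomial.X 1 ^ 2)
      + C β * Ψ a b c₀ (-(2 * MvPolynomial.C a * MvPolynomial.X 0 * MvPolynomial.X 1)
        - MvPolynomial.C b * MvPolynomial.X 1 ^ 2) = C (κ a b c₀) := by
  have h2 := Hβ a b c₀ ha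
  simp only [map_add, map_sub, map_neg, map_mul, map_pow, map_ofNat, Ψ_C, Ψ_X0, Ψ_X1, C_κ, x₀, x₁]
  linear_combination (-(1 - t) ^ 2) * h2

end Formulas

end Groth.Agent.Lib.Helper24.PLine
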