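import Mathlib

/-!
# The quadratic extension attached to an irreducible separable quadratic polynomial
-/

open Polynomial

namespace Groth.Agent.Lib.Helper24.PLine.Quad

variable {K : Type*} [Field K] (a b c₀ : K)

/-- The quadratic polynomial `a X² + b X + c₀`. -/
noncomputable def p : K[X] := C a * X ^ 2 + C b * X + C c₀

theorem natDegree_p (ha : a ≠ 0) : (p a b c₀).natDegree = 2 := natDegree_quadratic ha

theorem p_ne_zero (ha : a ≠ 0) : p a b c₀ ≠ 0 := by
  intro h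
  have := natDegree_p a b c₀ ha
  rw [h, natDegree_zero] at this
  omega

variable [hirr : Fact (Irreducible (p a b c₀))]

/-- The quadratic extension. -/
abbrev L := AdjoinRoot (p a b c₀)

/-- The canonical root. -/
noncomputable def α : L a b c₀ := AdjoinRoot.root _

/-- The other root. -/
noncomputable def β : L a b c₀ := -(algebraMap K (L a b c₀) b / algebraMap K (L a b c₀) a) - α a b c₀

local notation "ι" => algebraMap K (L a b c₀)

theorem hα : ι a * (α a b c₀) ^ 2 + ι b * α a b c₀ + ι c₀ = 0 := by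
  have h := AdjoinRoot.mk_self (f := p a b c₀)
  have h2 : AdjoinRoot.mk (p a b c₀) (C a * X ^ 2 + C b * X + C c₀) = 0 := h
  rw [map_add, map_add, map_mul, map_mul, map_pow, AdjoinRoot.mk_C, AdjoinRoot.mk_C,
    AdjoinRoot.mk_C, AdjoinRoot.mk_X] at h2
  exact h2

variable {a} in
theorem ιa_ne_zero (ha : a ≠ 0) : ι a ≠ 0 := by
  intro h
  exact ha ((map_eq_zero _).1 h)

theorem a_mul_β (ha : a ≠ 0) : ι a * β a b c₀ = -ι b - ι a * α a b c₀ := by
  have := ιa_ne_zero b c₀ ha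
  rw [β]
  field_simp

theorem hβ (ha : a ≠ 0) : ι a * (β a b c₀) ^ 2 + ι b * β a b c₀ + ι c₀ = 0 := by
  have h0 := ιa_ne_zero b c₀ ha
  have h1 := a_mul_β a b c₀ ha
  have h2 := hα a b c₀
  have : ι a * (ι a * (β a b c₀) ^ 2 + ι b * β a b c₀ + ι c₀) = 0 := by
    have e : ι a * (ι a * (β a b c₀) ^ 2 + ι b * β a b c₀ + ι c₀)
        = (ι a * β a b c₀) ^ 2 + ι b * (ι a * β a b c₀) + ι a * ι c₀ := by ring
    rw [e, h1]
    linear_combination ι a * h2
  rcases mul_eq_zero.1 this with h | h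
  · exact absurd h h0
  · exact h

theorem sum_roots (ha : a ≠ 0) : ι a * (α a b c₀ + β a b c₀) = -ι b := by
  rw [mul_add, a_mul_β a b c₀ ha]; ring

theorem prod_roots (ha : a ≠ 0) : ι a * (α a b c₀ * β a b c₀) = ι c₀ := by
  have h1 := a_mul_β a b c₀ ha
  have h2 := hα a b c₀
  calc ι a * (α a b c₀ * β a b c₀) = α a b c₀ * (ι a * β a b c₀) := by ring
    _ = ι c₀ := by rw [h1]; linear_combination -h2

theorem disc_eq (ha : a ≠ 0) :
    (ι a * (α a b c₀ - β a b c₀)) ^ 2 = ι (b ^ 2 - 4 * a * c₀) := by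
  have h1 := a_mul_β a b c₀ ha
  have h2 := hα a b c₀
  rw [mul_sub, h1, map_sub, map_pow, map_mul, map_mul]
  have h4 : ι (4 : K) = 4 := map_ofNat _ 4
  rw [h4]
  linear_combination 4 * ι a * h2

theorem α_ne_β (ha : a ≠ 0) (hdisc : b ^ 2 - 4 * a * c₀ ≠ 0) : α a b c₀ ≠ β a b c₀ := by
  intro h
  have h1 := disc_eq a b c₀ ha
  rw [h, sub_self, mul_zero, zero_pow two_ne_zero] at h1
  exact hdisc ((map_eq_zero _).1 h1.symm)

/-- The conjugation. -/
noncomputable def σ (ha : a ≠ 0) : L a b c₀ →ₐ[K] L a b c₀ :=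
  AdjoinRoot.liftAlgHom (p a b c₀) (Algebra.ofId K _) (β a b c₀) (by
    have := hβ a b c₀ ha
    simpa [p, eval₂_add, eval₂_mul, eval₂_pow, Algebra.ofId_apply] using this)

theorem σ_α (ha : a ≠ 0) : σ a b c₀ ha (α a b c₀) = β a b c₀ := by
  rw [σ, α, AdjoinRoot.liftAlgHom_root]

theorem σ_β (ha : a ≠ 0) : σ a b c₀ ha (β a b c₀) = α a b c₀ := by
  have h1 : σ a b c₀ ha (β a b c₀) = -(ι b / ι a) - β a b c₀ := by
    conv_lhs => rw [β]
    rw [map_sub, map_neg, map_div₀, AlgHom.commutes, AlgHom.commutes, σ_α]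
  rw [h1, β]; ring

theorem span (ha : a ≠ 0) (l : L a b c₀) : ∃ x y : K, l = ι x + ι y * α a b c₀ := by
  let pb := AdjoinRoot.powerBasis (p_ne_zero a b c₀ ha)
  obtain ⟨f, hf, hl⟩ := pb.exists_eq_aeval l
  have hdim : pb.dim = 2 := by
    rw [AdjoinRoot.powerBasis_dim, natDegree_p a b c₀ ha]
  have hgen : pb.gen = α a b c₀ := AdjoinRoot.powerBasis_gen _
  rw [hdim] at hf
  have hf1 : f.natDegree ≤ 1 := by omega
  have hf2 := Polynomial.eq_X_add_C_of_natDegree_le_one hf1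
  refine ⟨f.coeff 0, f.coeff 1, ?_⟩
  rw [hl, hgen, hf2]
  simp [add_comm]

theorem roots (hK : ∀ n : ℕ, 0 < n → (X ^ n - 1 : K[X]).Splits) (n : ℕ) (hn : 0 < n)
    (c : L a b c₀) (hc : c ^ n = 1) : ∃ k : K, ι k = c := by
  have hne : (X ^ n - 1 : K[X]) ≠ 0 := by
    have := (monic_X_pow_sub_C (1 : K) hn.ne').ne_zero
    simpa using this
  have hroot : ((X ^ n - 1 : K[X]).map ι).IsRoot c := by
    simp [IsRoot, hc]
  obtain ⟨k, hk⟩ := (hK n hn).mem_range_of_isRoot hne hroot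
  exact ⟨k, hk⟩

end Groth.Agent.Lib.Helper24.PLine.Quad
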